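import Mathlib
import Groth.Prelude.Def_CxOX
import Groth.Agent.Lib.Helper5.FlatCover.Main
import Groth.Agent.Lib.Helper1.PF12
import Groth.Agent.Lib.Helper1.QcAbel

/-!
# A quasi-coherent module with finitely generated sections on affines, on a quasi-compact scheme,
is a quotient of a finite direct sum of `j_! O_V`'s (helper6)
-/
set_option autoImplicit false
set_option linter.unusedSectionVars false
set_option linter.unusedVariables false
universe u
open CategoryTheory CategoryTheory.Limits Opposite TopologicalSpace AlgebraicGeometry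
open Groth.Agent.Helper1 Groth.Agent.Helper1.QcCech Groth.Agent.Lib.Helper5.FlatCover

namespace Groth.Agent.Lib.Helper6.QcGrot

variable {X : Scheme.{u}}

/-- the restrictions of a section `t` over `U` are values of `secMap F U t` -/
theorem exists_secMap_app_eq (F : X.Modules) (U : X.Opens) (t : Γ(F, U)) (W : X.Opens)
    (hW : W ≤ U) :
    ∃ e : Γ(CxOX.extZeroUnit U.ι, W), Scheme.Modules.Hom.app (secMap F U t) W e = res F hW t := by
  have hW' : W ≤ U.ι ''ᵁ ⊤ := hW.trans (le_of_eq (Scheme.Opens.ι_image_top U).symm)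
  refine ⟨res _ hW' (one' U), ?_⟩
  rw [QcExt.app_res, secMap_app_one', res_res]

/-- local generation: around a point of an affine open `V` on which the sections of a
quasi-coherent module are spanned by a finite set `S`, every section is a sum of values of the
`secMap`'s of the members of `S` -/
theorem exists_nhd_mem_closure (N : X.Modules) [N.IsQuasicoherent] {V : X.Opens}
    (hV : IsAffineOpen V) (S : Finset Γ(N, V))
    (hS : Submodule.span Γ(X, V) (S : Set Γ(N, V)) = ⊤)
    (U : X.Opens) (τ : Γ(N, U)) (y : X) (hyU : y ∈ U) (hyV : y ∈ V) :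
    ∃ (W : X.Opens) (hWU : W ≤ U), y ∈ W ∧
      res N hWU τ ∈ AddSubgroup.closure
        (⋃ s : S, Set.range (fun e : Γ(CxOX.extZeroUnit V.ι, W) =>
          Scheme.Modules.Hom.app (secMap N V s.1) W e)) := by
  obtain ⟨f, hfU, hyf⟩ := hV.exists_basicOpen_le (V := U) ⟨y, hyU⟩ hyV
  have hOV : X.basicOpen f ≤ V := X.basicOpen_le f
  refine ⟨X.basicOpen f, hfU, hyf, ?_⟩
  set A : AddSubgroup Γ(N, X.basicOpen f) := AddSubgroup.closure
        (⋃ s : S, Set.range (fun e : Γ(CxOX.extZeroUnit V.ι, X.basicOpen f) =>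
          Scheme.Modules.Hom.app (secMap N V s.1) (X.basicOpen f) e)) with hA
  obtain ⟨n, t₀, ht₀⟩ := QcAbel.extP_of_isQuasicoherent N V hV f (X.basicOpen f) rfl
    (res N hfU τ)
  -- every multiple of the restriction of an element of the span lies in `A`
  have key : ∀ t : Γ(N, V), ∀ r : Γ(X, X.basicOpen f), r • res N hOV t ∈ A := by
    intro t
    have ht : t ∈ Submodule.span Γ(X, V) (S : Set Γ(N, V)) := by rw [hS]; trivial
    induction ht using Submodule.span_induction with
    | mem s hs =>
      intro r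
      obtain ⟨e, he⟩ := exists_secMap_app_eq N V s (X.basicOpen f) hOV
      apply AddSubgroup.subset_closure
      refine Set.mem_iUnion.2 ⟨⟨s, hs⟩, r • e, ?_⟩
      change Scheme.Modules.Hom.app (secMap N V s) (X.basicOpen f) (r • e) = _
      rw [Scheme.Modules.Hom.app_smul, he]
    | zero =>
      intro r
      rw [map_zero, smul_zero]
      exact A.zero_mem
    | add a b _ _ ha hb =>
      intro r
      rw [map_add, smul_add]
      exact A.add_mem (ha r) (hb r)
    | smul c a _ ha =>
      intro r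
      rw [res_smul, smul_smul]
      exact ha _
  have hu : IsUnit (resR hOV f) := X.toRingedSpace.isUnit_res_basicOpen f
  obtain ⟨v, hv⟩ := hu
  have h1 := key t₀ ((↑(v⁻¹ ^ n) : Γ(X, X.basicOpen f)))
  have h2 : res N hOV t₀ = (↑(v ^ n) : Γ(X, X.basicOpen f)) • res N hfU τ := by
    rw [Units.val_pow_eq_pow_val, hv]
    exact ht₀
  rw [h2, smul_smul, ← Units.val_mul, ← mul_pow, inv_mul_cancel, one_pow, Units.val_one,
    one_smul] at h1
  exact h1

/-- **finite generation by extensions by zero**: on a quasi-compact scheme, a quasi-coherent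
module whose sections over affine opens are finitely generated is a quotient of a finite direct
sum of modules `j_! O_V` -/
theorem exists_epi_fin [CompactSpace X] (N : X.Modules) [N.IsQuasicoherent]
    (hfin : ∀ V : X.Opens, IsAffineOpen V → Module.Finite Γ(X, V) Γ(N, V)) :
    ∃ (k : ℕ) (V : Fin k → X.Opens) (π : (∐ fun l => CxOX.extZeroUnit (V l).ι) ⟶ N), Epi π := by
  classical
  have hx : ∀ x : X, ∃ V : X.Opens, IsAffineOpen V ∧ x ∈ V := by
    intro x
    obtain ⟨V, hV, hxV, -⟩ := Opens.isBasis_iff_nbhd.1 X.isBasis_affineOpens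
      (Opens.mem_top x)
    exact ⟨V, hV, hxV⟩
  choose V hV hxV using hx
  have hS : ∀ x : X, ∃ S : Finset Γ(N, V x),
      Submodule.span Γ(X, V x) (S : Set Γ(N, V x)) = ⊤ := fun x =>
    (Module.finite_def.1 (hfin (V x) (hV x)))
  choose S hS using hS
  obtain ⟨t, ht⟩ := isCompact_univ.elim_finite_subcover (fun x => ((V x : X.Opens) : Set X))
    (fun x => (V x).isOpen) (fun x _ => Set.mem_iUnion.2 ⟨x, hxV x⟩)
  let J : Type u := Σ x : t, {s // s ∈ S x.1}
  let e : J ≃ Fin (Fintype.card J) := Fintype.equivFin J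
  refine ⟨Fintype.card J, fun l => V (e.symm l).1.1,
    Sigma.desc (fun l => secMap N (V (e.symm l).1.1) (e.symm l).2.1), ?_⟩
  apply PF12.epi_desc_of_locally
  intro U τ y hy
  obtain ⟨x, hxt, hyx⟩ : ∃ x ∈ t, y ∈ V x := by
    have := ht (Set.mem_univ y)
    simpa using this
  obtain ⟨W, hWU, hyW, hmem⟩ := exists_nhd_mem_closure N (hV x) (S x) (hS x) U τ y hy hyx
  refine ⟨W, hWU, hyW, ?_⟩
  change res N hWU τ ∈ _
  refine AddSubgroup.closure_mono ?_ hmem
  intro z hz
  obtain ⟨s, b, rfl⟩ := Set.mem_iUnion.1 hz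
  refine Set.mem_iUnion.2 ⟨e ⟨⟨x, hxt⟩, s⟩, ?_⟩
  have aux : ∀ (j' : J), j' = ⟨⟨x, hxt⟩, s⟩ →
      Scheme.Modules.Hom.app (secMap N (V x) s.1) W b ∈
        Set.range (fun t_1 : Γ(CxOX.extZeroUnit (V j'.1.1).ι, W) =>
          Scheme.Modules.Hom.app (secMap N (V j'.1.1) j'.2.1) W t_1) := by
    rintro _ rfl
    exact ⟨b, rfl⟩
  exact aux _ (e.symm_apply_apply _)

end Groth.Agent.Lib.Helper6.QcGrot
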