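import Mathlib
import Groth.Prelude.Def_CxOX
import Groth.Agent.Lib.Helper6.QcGrot.FinGen
import Groth.Agent.Lib.Helper1.SubExt6

/-!
# Gabber-type generation: every section of a quasi-coherent module over an affine open lies in a
quasi-coherent submodule which is a quotient of a fixed direct sum of `j_! O_V`'s (helper6)
-/
set_option autoImplicit false
set_option linter.unusedSectionVars false
set_option linter.unusedVariables false
universe u
open CategoryTheory CategoryTheory.Limits Opposite TopologicalSpace AlgebraicGeometry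
open Groth.Agent.Helper1 Groth.Agent.Helper1.QcCech Groth.Agent.Helper1.SubSh
open Groth.Agent.Lib.Helper5.FlatCover

namespace Groth.Agent.Lib.Helper6.QcGrot

variable {X : Scheme.{u}}

section Transfer

variable (F : X.Modules) [F.IsQuasicoherent]

/-- transfer of a section over `V` to a section over an affine open `W`, near a common point -/
theorem exists_transfer {V W : X.Opens} (hW : IsAffineOpen W) (x : X) (hxV : x ∈ V) (hxW : x ∈ W)
    (y : Γ(F, V)) :
    ∃ m : Γ(F, W), ∃ (O : X.Opens) (hOV : O ≤ V) (hOW : O ≤ W), x ∈ O ∧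
      res F hOV y ∈ Submodule.span Γ(X, O) {res F hOW m} := by
  obtain ⟨g, hgV, hxg⟩ := hW.exists_basicOpen_le (V := V) ⟨x, hxV⟩ hxW
  have hgW : X.basicOpen g ≤ W := X.basicOpen_le g
  obtain ⟨n, m, hm⟩ := QcAbel.extP_of_isQuasicoherent F W hW g (X.basicOpen g) rfl (res F hgV y)
  refine ⟨m, X.basicOpen g, hgV, hgW, hxg, ?_⟩
  have hu : IsUnit (resR hgW g) := X.toRingedSpace.isUnit_res_basicOpen g
  obtain ⟨v, hv⟩ := hu
  have h2 : res F hgW m = (↑(v ^ n) : Γ(X, X.basicOpen g)) • res F hgV y := by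
    rw [Units.val_pow_eq_pow_val, hv]
    exact hm
  have h3 : res F hgV y = (↑(v⁻¹ ^ n) : Γ(X, X.basicOpen g)) • res F hgW m := by
    rw [h2, smul_smul, ← Units.val_mul, ← mul_pow, inv_mul_cancel, one_pow, Units.val_one,
      one_smul]
  rw [h3]
  exact Submodule.smul_mem _ _ (Submodule.subset_span (Set.mem_singleton _))

/-- a chosen transfer -/
noncomputable def mu {V W : X.Opens} (hW : IsAffineOpen W) (x : X) (hxV : x ∈ V) (hxW : x ∈ W)
    (y : Γ(F, V)) : Γ(F, W) := (exists_transfer F hW x hxV hxW y).choose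

theorem mu_spec {V W : X.Opens} (hW : IsAffineOpen W) (x : X) (hxV : x ∈ V) (hxW : x ∈ W)
    (y : Γ(F, V)) :
    ∃ (O : X.Opens) (hOV : O ≤ V) (hOW : O ≤ W), x ∈ O ∧
      res F hOV y ∈ Submodule.span Γ(X, O) {res F hOW (mu F hW x hxV hxW y)} :=
  (exists_transfer F hW x hxV hxW y).choose_spec

end Transfer

/-- formal paths of transfers starting at the affine open `V₀` -/
inductive Path (X : Scheme.{u}) (V₀ : X.affineOpens) : X.affineOpens → Type u
  | base : Path X V₀ V₀
  | step {V : X.affineOpens} (p : Path X V₀ V) (W : X.affineOpens) (x : X) : Path X V₀ W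

section Gab

variable (F : X.Modules) [F.IsQuasicoherent] {V₀ : X.affineOpens} (k : Γ(F, V₀.1))

open scoped Classical in
/-- the section attached to a path -/
noncomputable def sec : {V : X.affineOpens} → Path X V₀ V → Γ(F, V.1)
  | _, .base => k
  | _, .step (V := V) p W x =>
      if h : x ∈ V.1 ∧ x ∈ W.1 then mu F W.2 x h.1 h.2 (sec p) else 0

theorem sec_step {V : X.affineOpens} (p : Path X V₀ V) (W : X.affineOpens) (x : X)
    (hxV : x ∈ V.1) (hxW : x ∈ W.1) :
    sec F k (Path.step p W x) = mu F W.2 x hxV hxW (sec F k p) := by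
  simp only [sec]
  rw [dif_pos ⟨hxV, hxW⟩]

/-- spans of the restrictions of all the `sec`'s -/
noncomputable def gabPre : PreSub F where
  carrier W := Submodule.span Γ(X, W)
    {t | ∃ (V : X.affineOpens) (p : Path X V₀ V) (h : W ≤ V.1), t = res F h (sec F k p)}
  res_mem := by
    intro U W h t ht
    induction ht using Submodule.span_induction with
    | mem x hx =>
      obtain ⟨V, p, hU, rfl⟩ := hx
      rw [res_res]
      exact Submodule.subset_span ⟨V, p, h.trans hU, rfl⟩
    | zero => rw [map_zero]; exact Submodule.zero_mem _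
    | add x y _ _ hx hy => rw [map_add]; exact Submodule.add_mem _ hx hy
    | smul r x _ hx => rw [res_smul]; exact Submodule.smul_mem _ _ hx

/-- the subsheaf generated by all the `sec`'s -/
noncomputable def gab : LocalSub F := (gabPre F k).loc

theorem sec_mem_gab {V : X.affineOpens} (p : Path X V₀ V) :
    sec F k p ∈ (gab F k).carrier V.1 := by
  apply (gabPre F k).le_loc
  exact Submodule.subset_span ⟨V, p, le_rfl, (res_self F le_rfl _).symm⟩

/-- on an affine open `V`, the subsheaf `gab` is generated by the `sec`'s of the paths ending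
at `V` -/
theorem gabPre_locally_le {V : X.affineOpens} {W' : X.Opens} (hW'V : W' ≤ V.1)
    (z : Γ(F, W')) (hz : z ∈ (gabPre F k).carrier W') (x : X) (hx : x ∈ W') :
    ∃ (W'' : X.Opens) (h : W'' ≤ W'), x ∈ W'' ∧
      res F h z ∈ (LocalSub.genPre V.1 (Set.range (sec F k (V := V)))).carrier W'' := by
  induction hz using Submodule.span_induction with
  | mem z hz =>
    obtain ⟨V', p, h, rfl⟩ := hz
    have hxV' : x ∈ V'.1 := h hx
    have hxV : x ∈ V.1 := hW'V hx
    obtain ⟨O, hOV', hOV, hxO, hmem⟩ := mu_spec F V.2 x hxV' hxV (sec F k p)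
    rw [← sec_step F k p V x hxV' hxV] at hmem
    have h1 : res F hOV' (sec F k p) ∈
        (LocalSub.genPre V.1 (Set.range (sec F k (V := V)))).carrier O := by
      refine (Submodule.span_le.2 ?_) hmem
      intro a ha
      rw [Set.mem_singleton_iff] at ha
      subst ha
      exact Submodule.subset_span ⟨hOV, _, ⟨Path.step p V x, rfl⟩, rfl⟩
    refine ⟨W' ⊓ O, inf_le_left, ⟨hx, hxO⟩, ?_⟩
    have h2 := (LocalSub.genPre V.1 (Set.range (sec F k (V := V)))).res_mem
      (inf_le_right : W' ⊓ O ≤ O) h1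
    rw [res_res] at h2 ⊢
    exact h2
  | zero =>
    exact ⟨W', le_rfl, hx, by rw [map_zero]; exact Submodule.zero_mem _⟩
  | add a b _ _ ha hb =>
    obtain ⟨W₁, h₁, hx₁, m₁⟩ := ha
    obtain ⟨W₂, h₂, hx₂, m₂⟩ := hb
    refine ⟨W₁ ⊓ W₂, inf_le_left.trans h₁, ⟨hx₁, hx₂⟩, ?_⟩
    have e₁ := (LocalSub.genPre V.1 (Set.range (sec F k (V := V)))).res_mem
      (inf_le_left : W₁ ⊓ W₂ ≤ W₁) m₁
    have e₂ := (LocalSub.genPre V.1 (Set.range (sec F k (V := V)))).res_mem
      (inf_le_right : W₁ ⊓ W₂ ≤ W₂) m₂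
    rw [res_res] at e₁ e₂
    rw [map_add]
    exact Submodule.add_mem _ e₁ e₂
  | smul r a _ ha =>
    obtain ⟨W₁, h₁, hx₁, m₁⟩ := ha
    refine ⟨W₁, h₁, hx₁, ?_⟩
    rw [res_smul]
    exact Submodule.smul_mem _ _ m₁

theorem gab_carrier_eq {V : X.affineOpens} (W : X.Opens) (hWV : W ≤ V.1) :
    (gab F k).carrier W =
      (LocalSub.genOn V.1 (Set.range (sec F k (V := V)))).carrier W := by
  apply le_antisymm
  · intro t ht x hx
    obtain ⟨W', hW', hxW', hm⟩ := ht x hx
    obtain ⟨W'', h, hxW'', hm'⟩ := gabPre_locally_le F k (hW'.trans hWV) _ hm x hxW'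
    refine ⟨W'', h.trans hW', hxW'', ?_⟩
    rwa [res_res] at hm'
  · intro t ht x hx
    obtain ⟨W', hW', hxW', hm⟩ := ht x hx
    refine ⟨W', hW', hxW', ?_⟩
    refine (Submodule.span_mono ?_) hm
    rintro a ⟨h, p, ⟨q, rfl⟩, rfl⟩
    exact ⟨V, q, h, rfl⟩

theorem gab_extPOn (V : X.affineOpens) : (gab F k).ExtPOn V.1 :=
  (LocalSub.genOn_extPOn (Set.range (sec F k (V := V)))).congr
    (fun W hW => gab_carrier_eq F k W hW)

theorem gab_isQcOn : (gab F k).IsQcOn ⊤ := by
  intro x _
  obtain ⟨V, hV, hxV, -⟩ := Opens.isBasis_iff_nbhd.1 X.isBasis_affineOpens (Opens.mem_top x)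
  exact ⟨V, hxV, le_top, gab_extPOn F k ⟨V, hV⟩⟩

theorem isQuasicoherent_gab : (gab F k).obj.IsQuasicoherent :=
  (gab F k).isQuasicoherent_obj (gab_isQcOn F k)

end Gab

end Groth.Agent.Lib.Helper6.QcGrot
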