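import Mathlib
import Groth.Prelude.Def_QCohCat
import Groth.Prelude.Def_Coh
import Groth.Agent.Lib.Helper6.QcGrot.FinGen
import Groth.Agent.Lib.Helper4.QCohAb1
import Groth.Agent.Lib.Helper1.FPA10
import Groth.Agent.Lib.Helper1.FinPush
import Groth.Agent.Lib.Helper1.TwistSec
import Groth.Agent.Lib.Lead.QB3
import Groth.Agent.Lib.Helper3.ModGroth

/-!
# `QCoh(X)` for a quasi-compact quasi-separated scheme: cocomplete, well-copowered, with a small
separating family; cocontinuous functors out of it are left adjoints (helper6)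
-/
set_option autoImplicit false
set_option linter.unusedSectionVars false
set_option linter.unusedVariables false
set_option synthInstance.maxHeartbeats 400000
universe u u'
open CategoryTheory CategoryTheory.Limits Opposite TopologicalSpace AlgebraicGeometry
open Groth.Agent.Helper1 Groth.Agent.Helper1.QcCech Groth.Agent.Helper1.SubSh
open Groth.Agent.Lib.Helper4.QCohAb1

namespace Groth.Agent.Lib.Helper6.QcGrot

open QCohCat

variable (X : Scheme.{u})

instance : (isQCoh X).IsClosedUnderIsomorphisms :=
  inferInstanceAs (qc X).IsClosedUnderIsomorphisms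
instance : (isQCoh X).ContainsZero := inferInstanceAs (qc X).ContainsZero
instance : (isQCoh X).IsClosedUnderKernels := inferInstanceAs (qc X).IsClosedUnderKernels
instance : (isQCoh X).IsClosedUnderCokernels := inferInstanceAs (qc X).IsClosedUnderCokernels
instance : (isQCoh X).IsClosedUnderFiniteProducts :=
  inferInstanceAs (qc X).IsClosedUnderFiniteProducts

noncomputable instance : Abelian (QCohCat.QCoh X) := inferInstance

instance (J : Type u) : (isQCoh X).IsClosedUnderColimitsOfShape (Discrete J) := by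
  apply ObjectProperty.IsClosedUnderColimitsOfShape.mk'
  rintro _ ⟨F, hF⟩
  haveI : ∀ j : J, (F.obj ⟨j⟩).IsQuasicoherent := fun j => hF ⟨j⟩
  have h := Groth.Agent.Lead.QB.isQuasicoherent_sigma (fun j : J => F.obj ⟨j⟩)
  exact (isQCoh X).prop_of_iso (HasColimit.isoOfNatIso (Discrete.natIsoFunctor (F := F))).symm h

instance : HasCoproducts.{u} (QCohCat.QCoh X) := fun J => inferInstance

instance : HasColimits (QCohCat.QCoh X) := has_colimits_of_hasCoequalizers_and_coproducts

instance : IsGrothendieckAbelian.{u} X.Modules :=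
  Groth.Agent.Helper3.ModGroth.isGrothendieckAbelian _ X.ringCatSheaf

/-- the index type of the separating family -/
def Idx : Type (u + 1) :=
  Σ (k : ℕ) (V : Fin k → X.Opens),
    {S : Subobject (∐ fun l => CxOX.extZeroUnit (V l).ι) //
      (cokernel S.arrow).IsQuasicoherent}

instance : Small.{u} (Idx X) := by
  unfold Idx
  infer_instance

/-- the separating family: the quasi-coherent quotients of finite sums of `j_! O_V`'s -/
noncomputable def fam (i : Idx X) : QCohCat.QCoh X := ⟨cokernel i.2.2.1.arrow, i.2.2.2⟩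

variable {X}

/-- every quasi-coherent module with finitely generated sections over affines is a member of the
family, up to isomorphism -/
theorem exists_iso_fam [CompactSpace X] (N : X.Modules) [N.IsQuasicoherent]
    (hfin : ∀ V : X.Opens, IsAffineOpen V → Module.Finite Γ(X, V) Γ(N, V)) :
    ∃ i : Idx X, Nonempty ((fam X i).obj ≅ N) := by
  obtain ⟨k, V, π, hπ⟩ := exists_epi_fin N hfin
  let S : Subobject (∐ fun l => CxOX.extZeroUnit (V l).ι) := Subobject.mk (kernel.ι π)
  have hS : S.arrow = (Subobject.underlyingIso (kernel.ι π)).hom ≫ kernel.ι π :=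
    (Subobject.underlyingIso_hom_comp_eq_mk _).symm
  let c1 : cokernel S.arrow ≅ cokernel (kernel.ι π) :=
    cokernelIsoOfEq hS ≪≫ cokernelEpiComp _ _
  haveI : Epi (Abelian.factorThruCoimage π) := epi_of_epi_fac (Abelian.coimage.fac π)
  haveI : IsIso (Abelian.factorThruCoimage π) := isIso_of_mono_of_epi _
  let c2 : cokernel (kernel.ι π) ≅ N := asIso (Abelian.factorThruCoimage π)
  have hq : (cokernel S.arrow).IsQuasicoherent :=
    (isQCoh X).prop_of_iso (c1 ≪≫ c2).symm ‹N.IsQuasicoherent›
  exact ⟨⟨k, V, ⟨S, hq⟩⟩, ⟨c1 ≪≫ c2⟩⟩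

/-- **the family is separating** -/
theorem isSeparating_fam [CompactSpace X] [QuasiSeparatedSpace X] :
    (ObjectProperty.ofObj (fam X)).IsSeparating := by
  intro F F' f g h
  haveI : F.obj.IsQuasicoherent := F.property
  haveI : F'.obj.IsQuasicoherent := F'.property
  have key : ∀ (N : X.Modules) [N.IsQuasicoherent],
      (∀ V : X.Opens, IsAffineOpen V → Module.Finite Γ(X, V) Γ(N, V)) →
      ∀ a : N ⟶ F.obj, a ≫ f.hom = a ≫ g.hom := by
    intro N _ hfin a
    obtain ⟨i, ⟨c⟩⟩ := exists_iso_fam N hfin
    have h1 := h (fam X i) ⟨i⟩ (ObjectProperty.homMk (c.hom ≫ a))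
    have h2 := congrArg (fun φ => φ.hom) h1
    simp only [ObjectProperty.FullSubcategory.comp_hom] at h2
    change (c.hom ≫ a) ≫ f.hom = (c.hom ≫ a) ≫ g.hom at h2
    have h3 : c.hom ≫ (a ≫ f.hom) = c.hom ≫ (a ≫ g.hom) := by
      simpa only [Category.assoc] using h2
    exact (cancel_epi c.hom).1 h3
  apply ObjectProperty.hom_ext
  apply Scheme.Modules.hom_ext
  intro U
  ext τ
  apply TwistSec.eq_of_locally F'.obj
  intro x hx
  obtain ⟨V, hV, hxV, hVU⟩ := Opens.isBasis_iff_nbhd.1 X.isBasis_affineOpens hx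
  refine ⟨V, hVU, hxV, ?_⟩
  change res F'.obj hVU (Scheme.Modules.Hom.app f.hom U τ) =
    res F'.obj hVU (Scheme.Modules.Hom.app g.hom U τ)
  rw [← QcExt.app_res, ← QcExt.app_res]
  obtain ⟨N, hN⟩ := FPA.exists_ftSub_mem F.obj hV (res F.obj hVU τ)
  have hq : N.sub.obj.IsQuasicoherent := N.sub.isQuasicoherent_obj N.ft.isQcOn
  have hft := N.sub.isFiniteType_obj N.ft
  have hfin : ∀ W : X.Opens, IsAffineOpen W → Module.Finite Γ(X, W) Γ(N.sub.obj, W) :=
    fun W hW => FinPush.finite_sections N.sub.obj ⟨hq, hft⟩ hW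
  have h4 := key N.sub.obj hfin N.sub.ι
  have h5 := congrArg (fun φ => Scheme.Modules.Hom.app φ V (N.sub.mkSec _ hN)) h4
  simp only [Scheme.Modules.Hom.comp_app] at h5
  have h6 : Scheme.Modules.Hom.app N.sub.ι V (N.sub.mkSec _ hN) = res F.obj hVU τ :=
    N.sub.ι_app_mkSec _ hN
  change Scheme.Modules.Hom.app f.hom V (Scheme.Modules.Hom.app N.sub.ι V (N.sub.mkSec _ hN)) =
    Scheme.Modules.Hom.app g.hom V (Scheme.Modules.Hom.app N.sub.ι V (N.sub.mkSec _ hN)) at h5
  rw [h6] at h5
  exact h5

/-- `QCoh(X)` is well-powered -/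
theorem wellPowered_qcoh [CompactSpace X] [QuasiSeparatedSpace X] :
    WellPowered.{u} (QCohCat.QCoh X) :=
  wellPowered_of_isDetecting (isSeparating_fam (X := X)).isDetecting

/-- **special adjoint functor theorem for `QCoh(X)`**: a functor from the category of
quasi-coherent modules on a quasi-compact quasi-separated scheme which preserves small colimits
is a left adjoint -/
theorem isLeftAdjoint_of_preservesColimits [CompactSpace X] [QuasiSeparatedSpace X]
    {A : Type u'} [Category.{u} A] (F : QCohCat.QCoh X ⥤ A)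
    [PreservesColimitsOfSize.{u, u} F] : F.IsLeftAdjoint := by
  haveI : WellPowered.{u} (QCohCat.QCoh X) := wellPowered_qcoh
  exact isLeftAdjoint_of_preservesColimits_of_isSeparating (isSeparating_fam (X := X)) F

end Groth.Agent.Lib.Helper6.QcGrot
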