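import Mathlib
import Groth.Agent.Lib.Helper6.QcGrot.Gabber
import Groth.Agent.Lib.Helper6.QcGrot.Sep

/-!
# `QCoh(X)` for an arbitrary scheme: a small separating family, the coherator, enough injectives
(helper6)
-/
set_option autoImplicit false
set_option linter.unusedSectionVars false
set_option linter.unusedVariables false
set_option synthInstance.maxHeartbeats 400000
universe u u'
open CategoryTheory CategoryTheory.Limits Opposite TopologicalSpace AlgebraicGeometry
open Groth.Agent.Helper1 Groth.Agent.Helper1.QcCech Groth.Agent.Helper1.SubSh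
open Groth.Agent.Lib.Helper5.FlatCover Groth.Agent.Lib.Helper4.QCohAb1

namespace Groth.Agent.Lib.Helper6.QcGrot

open QCohCat

variable {X : Scheme.{u}}

/-- a family of morphisms whose images locally generate is jointly epimorphic (any index type) -/
theorem epi_desc_of_locally' {ι : Type u} (L : ι → X.Modules) (N : X.Modules)
    (f : ∀ i, L i ⟶ N)
    (h : ∀ (U : X.Opens) (τ : Γ(N, U)) (x : X), x ∈ U → ∃ (V : X.Opens) (hVU : V ≤ U), x ∈ V ∧
      N.presheaf.map (homOfLE hVU).op τ ∈
        AddSubgroup.closure (⋃ i, Set.range (fun t : Γ(L i, V) => (f i).app V t))) :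
    Epi (Sigma.desc f) := by
  refine ⟨fun {Q} g g' hgg' => ?_⟩
  have h1 : ∀ i, f i ≫ g = f i ≫ g' := by
    intro i
    have := congrArg (fun q => Sigma.ι L i ≫ q) hgg'
    simpa using this
  apply Scheme.Modules.hom_ext
  intro U
  ext τ
  choose V hVU hxV hcl using fun x : U => h U τ x.1 x.2
  refine TopCat.Sheaf.eq_of_locally_eq' (⟨Q.presheaf, Q.isSheaf⟩ : TopCat.Sheaf Ab X) V U
    (fun x => homOfLE (hVU x)) (fun x hx => Opens.mem_iSup.2 ⟨⟨x, hx⟩, hxV ⟨x, hx⟩⟩) _ _ ?_
  intro x
  change Q.presheaf.map (homOfLE (hVU x)).op (g.app U τ) =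
    Q.presheaf.map (homOfLE (hVU x)).op (g'.app U τ)
  have n1 := NatTrans.naturality_apply g.mapPresheaf (homOfLE (hVU x)).op τ
  have n2 := NatTrans.naturality_apply g'.mapPresheaf (homOfLE (hVU x)).op τ
  simp only [Scheme.Modules.mapPresheaf_app] at n1 n2
  erw [← n1, ← n2]
  have hs := hcl x
  generalize (N.presheaf.map (homOfLE (hVU x)).op) τ = w at hs ⊢
  induction hs using AddSubgroup.closure_induction with
  | mem y hy =>
    obtain ⟨i, t, rfl⟩ := Set.mem_iUnion.1 hy
    have := congrArg (fun q : L i ⟶ Q => q.app (V x) t) (h1 i)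
    exact this
  | zero => simp
  | add y z _ _ hy hz => rw [map_add, map_add, hy, hz]
  | neg y _ hy => rw [map_neg, map_neg, hy]

/-- the index type of the generators attached to a base affine open -/
abbrev GIdx (V₀ : X.affineOpens) : Type u := Σ V : X.affineOpens, Path X V₀ V

/-- the fixed generator object attached to a base affine open -/
noncomputable abbrev genObj (V₀ : X.affineOpens) : X.Modules :=
  ∐ fun i : GIdx V₀ => CxOX.extZeroUnit i.1.1.ι

section Cover

variable (F : X.Modules) [F.IsQuasicoherent] {V₀ : X.affineOpens} (k : Γ(F, V₀.1))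

/-- the generating sections, as sections of the subsheaf -/
noncomputable def gsec (i : GIdx V₀) : Γ((gab F k).obj, i.1.1) :=
  (gab F k).mkSec (sec F k i.2) (sec_mem_gab F k i.2)

/-- the canonical morphism from the generator object onto the subsheaf -/
noncomputable def gabCover : genObj V₀ ⟶ (gab F k).obj :=
  Sigma.desc (fun i : GIdx V₀ => secMap (gab F k).obj i.1.1 (gsec F k i))

instance epi_gabCover : Epi (gabCover F k) := by
  apply epi_desc_of_locally'
  intro U τ x hx
  have hz : (gab F k).ι.app U τ ∈ (gab F k).carrier U := (gab F k).ι_app_mem τ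
  obtain ⟨W, hWU, hxW, hm⟩ := hz x hx
  refine ⟨W, hWU, hxW, ?_⟩
  change res (gab F k).obj hWU τ ∈ _
  set A : AddSubgroup Γ((gab F k).obj, W) := AddSubgroup.closure
    (⋃ i : GIdx V₀, Set.range (fun t : Γ(CxOX.extZeroUnit i.1.1.ι, W) =>
      Scheme.Modules.Hom.app (secMap (gab F k).obj i.1.1 (gsec F k i)) W t)) with hA
  have key : ∀ z' : Γ(F, W), z' ∈ (gabPre F k).carrier W → ∀ r : Γ(X, W),
      ∃ τ' : Γ((gab F k).obj, W), τ' ∈ A ∧ (gab F k).ι.app W τ' = r • z' := by
    intro z' hz'
    induction hz' using Submodule.span_induction with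
    | mem z hz =>
      intro r
      obtain ⟨V, p, h, rfl⟩ := hz
      obtain ⟨e, he⟩ := exists_secMap_app_eq (gab F k).obj V.1 (gsec F k ⟨V, p⟩) W h
      refine ⟨Scheme.Modules.Hom.app (secMap (gab F k).obj V.1 (gsec F k ⟨V, p⟩)) W (r • e),
        AddSubgroup.subset_closure (Set.mem_iUnion.2 ⟨⟨V, p⟩, r • e, rfl⟩), ?_⟩
      rw [Scheme.Modules.Hom.app_smul, Scheme.Modules.Hom.app_smul, he, QcExt.app_res]
      congr 2
    | zero =>
      intro r
      exact ⟨0, A.zero_mem, by rw [map_zero, smul_zero]⟩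
    | add a b _ _ ha hb =>
      intro r
      obtain ⟨τa, hτa, ea⟩ := ha r
      obtain ⟨τb, hτb, eb⟩ := hb r
      exact ⟨τa + τb, A.add_mem hτa hτb, by rw [map_add, ea, eb, smul_add]⟩
    | smul c a _ ha =>
      intro r
      obtain ⟨τa, hτa, ea⟩ := ha (r * c)
      exact ⟨τa, hτa, by rw [ea, mul_smul]⟩
  obtain ⟨τ', hτ', e'⟩ := key _ hm 1
  rw [one_smul, ← QcExt.app_res] at e'
  have := (gab F k).ι_app_injective W e'
  rw [← this]
  exact hτ'

end Cover

variable (X)

/-- the index type of the separating family -/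
def GIdx' : Type (u + 1) :=
  Σ (V₀ : X.affineOpens), {S : Subobject (genObj V₀) // (cokernel S.arrow).IsQuasicoherent}

instance : Small.{u} (GIdx' X) := by
  unfold GIdx'
  infer_instance

/-- the separating family: the quasi-coherent quotients of the generator objects -/
noncomputable def gfam (i : GIdx' X) : QCohCat.QCoh X := ⟨cokernel i.2.1.arrow, i.2.2⟩

variable {X}

theorem exists_iso_gfam (V₀ : X.affineOpens) (N : X.Modules) [N.IsQuasicoherent]
    (π : genObj V₀ ⟶ N) [Epi π] : ∃ i : GIdx' X, Nonempty ((gfam X i).obj ≅ N) := by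
  let S : Subobject (genObj V₀) := Subobject.mk (kernel.ι π)
  have hS : S.arrow = (Subobject.underlyingIso (kernel.ι π)).hom ≫ kernel.ι π :=
    (Subobject.underlyingIso_hom_comp_eq_mk _).symm
  let c1 : cokernel S.arrow ≅ cokernel (kernel.ι π) :=
    cokernelIsoOfEq hS ≪≫ cokernelEpiComp _ _
  haveI : Epi (Abelian.factorThruCoimage π) := epi_of_epi_fac (Abelian.coimage.fac π)
  haveI : IsIso (Abelian.factorThruCoimage π) := isIso_of_mono_of_epi _
  let c2 : cokernel (kernel.ι π) ≅ N := asIso (Abelian.factorThruCoimage π)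
  have hq : (cokernel S.arrow).IsQuasicoherent :=
    (isQCoh X).prop_of_iso (c1 ≪≫ c2).symm ‹N.IsQuasicoherent›
  exact ⟨⟨V₀, ⟨S, hq⟩⟩, ⟨c1 ≪≫ c2⟩⟩

/-- **the family is separating**, for an arbitrary scheme -/
theorem isSeparating_gfam : (ObjectProperty.ofObj (gfam X)).IsSeparating := by
  intro F F' f g h
  haveI : F.obj.IsQuasicoherent := F.property
  haveI : F'.obj.IsQuasicoherent := F'.property
  have key : ∀ (V₀ : X.affineOpens) (N : X.Modules) [N.IsQuasicoherent]
      (π : genObj V₀ ⟶ N) [Epi π] (a : N ⟶ F.obj), a ≫ f.hom = a ≫ g.hom := by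
    intro V₀ N _ π _ a
    obtain ⟨i, ⟨c⟩⟩ := exists_iso_gfam V₀ N π
    have h1 := h (gfam X i) ⟨i⟩ (ObjectProperty.homMk (c.hom ≫ a))
    have h2 := congrArg (fun φ => φ.hom) h1
    simp only [ObjectProperty.FullSubcategory.comp_hom] at h2
    change (c.hom ≫ a) ≫ f.hom = (c.hom ≫ a) ≫ g.hom at h2
    have h3 : c.hom ≫ (a ≫ f.hom) = c.hom ≫ (a ≫ g.hom) := by
      simpa only [Category.assoc] using h2
    exact (cancel_epi c.hom).1 h3
  apply ObjectProperty.hom_ext
  apply Scheme.Modules.hom_ext
  intro U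
  ext τ
  apply TwistSec.eq_of_locally F'.obj
  intro x hx
  obtain ⟨V, hV, hxV, hVU⟩ := Opens.isBasis_iff_nbhd.1 X.isBasis_affineOpens hx
  refine ⟨V, hVU, hxV, ?_⟩
  change res F'.obj hVU (Scheme.Modules.Hom.app f.hom U τ) =
    res F'.obj hVU (Scheme.Modules.Hom.app g.hom U τ)
  rw [← QcExt.app_res, ← QcExt.app_res]
  let V₀ : X.affineOpens := ⟨V, hV⟩
  let k : Γ(F.obj, V₀.1) := res F.obj hVU τ
  haveI : (gab F.obj k).obj.IsQuasicoherent := isQuasicoherent_gab F.obj k
  have h4 := key V₀ (gab F.obj k).obj (gabCover F.obj k) (gab F.obj k).ι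
  have hk : k ∈ (gab F.obj k).carrier V₀.1 := sec_mem_gab F.obj k Path.base
  have h5 := congrArg (fun φ => Scheme.Modules.Hom.app φ V ((gab F.obj k).mkSec k hk)) h4
  simp only [Scheme.Modules.Hom.comp_app] at h5
  have h6 : Scheme.Modules.Hom.app (gab F.obj k).ι V ((gab F.obj k).mkSec k hk) = k :=
    (gab F.obj k).ι_app_mkSec _ hk
  change Scheme.Modules.Hom.app f.hom V
      (Scheme.Modules.Hom.app (gab F.obj k).ι V ((gab F.obj k).mkSec k hk)) =
    Scheme.Modules.Hom.app g.hom V
      (Scheme.Modules.Hom.app (gab F.obj k).ι V ((gab F.obj k).mkSec k hk)) at h5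
  rw [h6] at h5
  exact h5

variable (X)

/-- `QCoh(X)` is well-powered, for an arbitrary scheme -/
theorem wellPowered_qcoh_gen : WellPowered.{u} (QCohCat.QCoh X) :=
  wellPowered_of_isDetecting (isSeparating_gfam (X := X)).isDetecting

noncomputable instance : PreservesFiniteColimits (isQCoh X).ι :=
  inferInstanceAs (PreservesFiniteColimits (qc X).ι)

noncomputable instance : PreservesFiniteLimits (isQCoh X).ι :=
  inferInstanceAs (PreservesFiniteLimits (qc X).ι)

/-- the inclusion of quasi-coherent modules preserves all small colimits -/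
theorem preservesColimits_ι : PreservesColimitsOfSize.{u, u} (isQCoh X).ι :=
  preservesColimits_of_preservesCoequalizers_and_coproducts _

/-- **the coherator exists**: the inclusion `QCoh(X) ⥤ Mod(O_X)` is a left adjoint -/
theorem ι_isLeftAdjoint : (isQCoh X).ι.IsLeftAdjoint := by
  haveI : WellPowered.{u} (QCohCat.QCoh X) := wellPowered_qcoh_gen X
  haveI := preservesColimits_ι X
  exact isLeftAdjoint_of_preservesColimits_of_isSeparating (isSeparating_gfam (X := X))
    (isQCoh X).ι

/-- **`QCoh(X)` has enough injectives** -/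
theorem enoughInjectives_qcoh : EnoughInjectives (QCohCat.QCoh X) := by
  haveI := ι_isLeftAdjoint X
  exact EnoughInjectives.of_adjunction (Adjunction.ofIsLeftAdjoint (isQCoh X).ι)

end Groth.Agent.Lib.Helper6.QcGrot
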