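import Mathlib
import Groth.Prelude.Def_Coh
import Groth.Agent.Lib.Helper6.QcGrot.GabSep
import Groth.Agent.Lib.Helper1.PushQc
import Groth.Agent.Lib.Helper5.Misc.ClosedPushMod

/-!
# SAFT for `QCoh(X)` on an arbitrary scheme, and the right adjoint of `i_*` on quasi-coherent
modules for a closed immersion (helper6)
-/
set_option autoImplicit false
set_option linter.unusedSectionVars false
set_option linter.unusedVariables false
set_option synthInstance.maxHeartbeats 400000
universe u u'
open CategoryTheory CategoryTheory.Limits Opposite TopologicalSpace AlgebraicGeometry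

namespace Groth.Agent.Lib.Helper6.QcGrot

open QCohCat

/-- **special adjoint functor theorem for `QCoh(X)`, arbitrary scheme** -/
theorem isLeftAdjoint_of_preservesColimits_gen {X : Scheme.{u}}
    {A : Type u'} [Category.{u} A] (F : QCohCat.QCoh X ⥤ A)
    [PreservesColimitsOfSize.{u, u} F] : F.IsLeftAdjoint := by
  haveI : WellPowered.{u} (QCohCat.QCoh X) := wellPowered_qcoh_gen X
  exact isLeftAdjoint_of_preservesColimits_of_isSeparating (isSeparating_gfam (X := X)) F

variable {Z X : Scheme.{u}} (i : Z ⟶ X) [IsClosedImmersion i]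

theorem isQCoh_push (M : QCohCat.QCoh Z) :
    isQCoh X (((isQCoh Z).ι ⋙ Coh.push i).obj M) := by
  haveI : M.obj.IsQuasicoherent := M.property
  exact Groth.Agent.Helper1.PushQc.isQuasicoherent_pushforward (f := i) (F := M.obj)

/-- `i_*` on quasi-coherent modules -/
noncomputable def pushQ : QCohCat.QCoh Z ⥤ QCohCat.QCoh X :=
  (isQCoh X).lift ((isQCoh Z).ι ⋙ Coh.push i) (isQCoh_push i)

theorem pushQ_isLeftAdjoint : (pushQ i).IsLeftAdjoint := by
  haveI h1 : PreservesColimitsOfSize.{u, u} (Scheme.Modules.pushforward i) :=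
    Groth.Agent.Lib.Helper5.ClosedPushMod.preservesColimits_pushforward i
  haveI h2 := preservesColimits_ι Z
  haveI h3 : PreservesColimitsOfSize.{u, u} ((isQCoh Z).ι ⋙ Coh.push i) :=
    comp_preservesColimits _ _
  haveI h4 : PreservesColimitsOfSize.{u, u} (pushQ i ⋙ (isQCoh X).ι) :=
    preservesColimits_of_natIso ((isQCoh X).liftCompιIso _ (isQCoh_push i)).symm
  haveI h5 : PreservesColimitsOfSize.{u, u} (pushQ i) :=
    preservesColimits_of_reflects_of_preserves (pushQ i) (isQCoh X).ι
  exact isLeftAdjoint_of_preservesColimits_gen (pushQ i)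

end Groth.Agent.Lib.Helper6.QcGrot
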