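import Mathlib
import Groth.Prelude.Def_QCohCat
import Groth.Agent.Lib.Helper6.QcGrot.GabSep
import Groth.Agent.Lib.Helper4.GlobColim
import Groth.Agent.Lib.Helper1.FPA13
import Groth.Agent.Lib.Lead.FP2

/-!
# Compact objects of `QCoh(X)` on a qcqs scheme are the finitely presented modules (helper6)

Built on helper4's `GlobColim.main` (Hom out of a finitely presented module commutes with directed
colimits on a "qcqs" ringed space), helper1's `FPA.exists_filtered_colimit_fp` (every quasi-coherent
module on a qcqs scheme is a filtered colimit of finitely presented ones) and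
`QcGrot.preservesColimits_ι`.
-/
set_option autoImplicit false
set_option linter.unusedSectionVars false
set_option linter.unusedVariables false
set_option synthInstance.maxHeartbeats 400000
set_option maxHeartbeats 1000000
universe u
open CategoryTheory CategoryTheory.Limits Opposite TopologicalSpace AlgebraicGeometry

namespace Groth.Agent.Lib.Helper6.QcGrot

open QCohCat Scheme.Modules

/-- refinement hypothesis of helper4's `GlobColim.main` for a qcqs scheme -/
theorem refine_of_qcqs (X : Scheme.{u}) [CompactSpace X] [QuasiSeparatedSpace X] :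
    ∀ (ι : Type u) (V : ι → Opens X), iSup V = ⊤ →
      ∃ (J : Type u) (_ : Finite J) (U : J → Opens X), iSup U = ⊤ ∧ (∀ j, ∃ i, U j ≤ V i) ∧
        ∀ j j', IsCompact ((U j ⊓ U j' : Opens X) : Set X) := by
  intro ι V hV
  have h1 : ∀ x : X, ∃ (W : X.Opens), IsAffineOpen W ∧ x ∈ W ∧ ∃ i, W ≤ V i := by
    intro x
    have hx : x ∈ (iSup V : Opens X) := by rw [hV]; trivial
    obtain ⟨i, hi⟩ := Opens.mem_iSup.1 hx
    obtain ⟨_, ⟨W, hW, rfl⟩, hxW, hWV⟩ :=
      X.isBasis_affineOpens.exists_subset_of_mem_open hi (V i).isOpen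
    exact ⟨W, hW, hxW, i, hWV⟩
  choose W hW hxW hWV using h1
  obtain ⟨t, ht⟩ := isCompact_univ.elim_finite_subcover (fun x : X => ((W x : X.Opens) : Set X))
    (fun x => (W x).isOpen) (fun x _ => Set.mem_iUnion.2 ⟨x, hxW x⟩)
  refine ⟨t, inferInstance, fun j => W j.1, ?_, fun j => hWV j.1, fun j j' => ?_⟩
  · rw [eq_top_iff]
    intro x _
    obtain ⟨y, hy⟩ := Set.mem_iUnion.1 (ht (Set.mem_univ x))
    obtain ⟨hyt, hxy⟩ := Set.mem_iUnion.1 hy
    exact Opens.mem_iSup.2 ⟨⟨y, hyt⟩, hxy⟩
  · rw [Opens.coe_inf]
    exact QuasiSeparatedSpace.inter_isCompact _ _ (W j.1).isOpen (hW j.1).isCompact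
      (W j'.1).isOpen (hW j'.1).isCompact

/-- `Hom(G, -)` on `Mod(O_X)` preserves filtered colimits for `G` of finite presentation on a
qcqs scheme -/
theorem preservesFilteredColimits_coyoneda_of_isFP (X : Scheme.{u}) [CompactSpace X]
    [QuasiSeparatedSpace X] (G : X.Modules) (hG : CohB1.IsFP G)
    (J : Type u) [SmallCategory J] [IsFiltered J] :
    PreservesColimitsOfShape J (coyoneda.obj (op G)) := by
  obtain ⟨α, _, _, _, Φ, hΦ⟩ := IsFiltered.exists_directed J
  refine ⟨fun {K} => ⟨fun {c} hc => ⟨?_⟩⟩⟩
  haveI hpres : PreservesColimit (Φ ⋙ K) (coyoneda.obj (op G)) := by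
    haveI : SheafOfModules.IsFinitePresentation (R := ModSite.ringSh X.sheaf) G := hG
    exact Groth.Agent.Lib.Helper4.GlobColim.main X.sheaf (refine_of_qcqs X) (Φ ⋙ K) G
  have h1 : IsColimit (c.whisker Φ) := (Functor.Final.isColimitWhiskerEquiv Φ c).symm hc
  have h2 : IsColimit ((coyoneda.obj (op G)).mapCocone (c.whisker Φ)) :=
    isColimitOfPreserves _ h1
  exact (Functor.Final.isColimitWhiskerEquiv Φ ((coyoneda.obj (op G)).mapCocone c)) h2

/-- the hom functor out of `F` in `QCoh X` as a composite -/
noncomputable def coyonedaιIso (X : Scheme.{u}) (F : QCohCat.QCoh X) :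
    coyoneda.obj (op F) ≅ (isQCoh X).ι ⋙ coyoneda.obj (op F.obj) :=
  NatIso.ofComponents (fun G => Equiv.toIso
    { toFun := fun f => f.hom
      invFun := fun g => ObjectProperty.homMk g
      left_inv := fun f => rfl
      right_inv := fun g => rfl })
    (by intro G G' φ; ext f; rfl)

/-- finitely presented quasi-coherent modules are compact objects of `QCoh(X)`, `X` qcqs -/
theorem isFinitelyPresentable_of_isFP (X : Scheme.{u}) [CompactSpace X] [QuasiSeparatedSpace X]
    (F : QCohCat.QCoh X) (hF : CohB1.IsFP F.obj) : IsFinitelyPresentable.{u} F := by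
  rw [isFinitelyPresentable_iff_preservesFilteredColimits]
  constructor
  intro J _ _
  haveI := preservesColimits_ι X
  haveI := preservesFilteredColimits_coyoneda_of_isFP X F.obj hF J
  haveI : PreservesColimitsOfShape J ((isQCoh X).ι ⋙ coyoneda.obj (op F.obj)) := inferInstance
  exact preservesColimitsOfShape_of_natIso (coyonedaιIso X F).symm

/-- a retract of a finitely presented module is finitely presented -/
theorem fp_of_retract {R M N : Type*} [CommRing R] [AddCommGroup M] [Module R M] [AddCommGroup N]
    [Module R N] [Module.FinitePresentation R N] (r : N →ₗ[R] M) (s : M →ₗ[R] N)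
    (h : ∀ m, r (s m) = m) : Module.FinitePresentation R M := by
  have hsurj : Function.Surjective r := fun m => ⟨s m, h m⟩
  refine Module.finitePresentation_of_surjective r hsurj ?_
  have hk : LinearMap.ker r = LinearMap.range (LinearMap.id - s ∘ₗ r) := by
    ext n
    simp only [LinearMap.mem_ker, LinearMap.mem_range, LinearMap.sub_apply, LinearMap.id_apply,
      LinearMap.comp_apply]
    constructor
    · intro hn
      exact ⟨n, by rw [hn, map_zero, sub_zero]⟩
    · rintro ⟨y, rfl⟩
      rw [map_sub, h, sub_self]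
  rw [hk]
  haveI : Module.Finite R N := inferInstance
  exact Submodule.fg_range _

/-- compact objects of `QCoh(X)` are finitely presented, `X` qcqs -/
theorem isFP_of_isFinitelyPresentable_aux (X : Scheme.{u}) [CompactSpace X]
    [QuasiSeparatedSpace X] (M : X.Modules) (hq : M.IsQuasicoherent)
    (hM : IsFinitelyPresentable.{u} (⟨M, hq⟩ : QCohCat.QCoh X)) : CohB1.IsFP M := by
  haveI := hq
  obtain ⟨I, _, _, D, c, hc, hfp, hpt⟩ := Groth.Agent.Helper1.FPA.exists_filtered_colimit_fp (F := M)
  subst hpt
  have hqD : ∀ i, isQCoh X (D.obj i) := fun i =>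
    Groth.Agent.Helper1.FPA.isQuasicoherent_of_isFP _ (hfp i)
  let D' : I ⥤ QCohCat.QCoh X := (isQCoh X).lift D hqD
  let c' : Cocone D' :=
    { pt := ⟨c.pt, hq⟩
      ι :=
        { app := fun i => ObjectProperty.homMk (c.ι.app i)
          naturality := fun i j f =>
            ObjectProperty.hom_ext _ ((c.w f).trans (Category.comp_id _).symm) } }
  let sD : Cocone D' → Cocone D := fun s =>
    { pt := s.pt.obj
      ι :=
        { app := fun i => (s.ι.app i).hom
          naturality := fun i j f =>
            (congrArg (fun φ => InducedCategory.Hom.hom φ) (s.w f)).trans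
              (Category.comp_id _).symm } }
  have hc' : IsColimit c' :=
    { desc := fun s => ObjectProperty.homMk (hc.desc (sD s))
      fac := fun s i => by
        apply ObjectProperty.hom_ext
        exact hc.fac (sD s) i
      uniq := fun s m hm => by
        apply ObjectProperty.hom_ext
        apply hc.hom_ext
        intro i
        exact (congrArg (fun φ => InducedCategory.Hom.hom φ) (hm i)).trans
          (hc.fac (sD s) i).symm }
  haveI := hM
  obtain ⟨j, g, hg⟩ := IsFinitelyPresentable.exists_hom_of_isColimit hc' (𝟙 c'.pt)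
  have hsr : g.hom ≫ c.ι.app j = 𝟙 c.pt := congrArg (fun φ => InducedCategory.Hom.hom φ) hg
  rw [Groth.Agent.Lead.FP.isFP_iff_affineOpens]
  intro U hU
  haveI : Module.FinitePresentation Γ(X, U) Γ(D.obj j, U) :=
    Groth.Agent.Lead.FP.fp_sections_of_isFP (D.obj j) (hfp j) hU
  refine fp_of_retract (Groth.Agent.Helper1.FPA.appL (c.ι.app j) U)
    (Groth.Agent.Helper1.FPA.appL g.hom U) (fun m => ?_)
  have := congrArg (fun ψ => Scheme.Modules.Hom.app ψ U m) hsr
  exact this

end Groth.Agent.Lib.Helper6.QcGrot
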